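import Mathlib.AlgebraicGeometry.Modules.Tilde
import Mathlib.Algebra.Category.ModuleCat.ChangeOfRings
import Mathlib.CategoryTheory.Adjunction.Unique

/-! Pullback of the sheaf associated to a module along a morphism of affine schemes. -/

set_option autoImplicit false
set_option backward.isDefEq.respectTransparency.types false

noncomputable section

universe u

open CategoryTheory AlgebraicGeometry TensorProduct

namespace Groth.Agent.TildePull72

variable {R S : CommRingCat.{u}} (φ : R ⟶ S)

/-- Global sections commute with direct image along `Spec φ`. -/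
def pushforwardΓIso :
    Scheme.Modules.pushforward (Spec.map φ) ⋙ moduleSpecΓFunctor (R := R) ≅
      moduleSpecΓFunctor (R := S) ⋙ ModuleCat.restrictScalars φ.hom :=
  (Functor.associator _ _ _).symm ≪≫
    Functor.isoWhiskerRight (pushforwardCompModulesSpecToSheafIso φ)
      (TopCat.Sheaf.forget _ _ ⋙ (evaluation _ _).obj (.op ⊤)) ≪≫
    NatIso.ofComponents (fun _ => Iso.refl _) (fun _ => rfl)

/-- `(Spec φ)^* ∘ tilde ≅ tilde ∘ (S ⊗_R -)`. -/
def pullbackTildeIso :
    tilde.functor R ⋙ Scheme.Modules.pullback (Spec.map φ) ≅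
      ModuleCat.extendScalars φ.hom ⋙ tilde.functor S :=
  (tilde.adjunction.comp (Scheme.Modules.pullbackPushforwardAdjunction (Spec.map φ))).leftAdjointUniq
    (((ModuleCat.extendRestrictScalarsAdj.{u, u, u} φ.hom).comp tilde.adjunction).ofNatIsoRight
      (pushforwardΓIso φ).symm)

theorem nonempty_pullback_tilde_iso (A' A : Type u) [CommRing A'] [CommRing A] [i : Algebra A' A]
    (N' : Type u) [AddCommGroup N'] [Module A' N'] :
    Nonempty ((Scheme.Modules.pullback (Spec.map (CommRingCat.ofHom (algebraMap A' A)))).obj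
        (tilde (ModuleCat.of A' N')) ≅ tilde (ModuleCat.of A (A ⊗[A'] N'))) := by
  have key : ∀ (φ : A' →+* A) (j : Algebra A' A), j = φ.toAlgebra →
      Nonempty ((Scheme.Modules.pullback (Spec.map (CommRingCat.ofHom φ))).obj
        (tilde (ModuleCat.of A' N')) ≅
          tilde (ModuleCat.of A (letI := j; A ⊗[A'] N'))) := by
    rintro φ j rfl
    exact ⟨(pullbackTildeIso (CommRingCat.ofHom φ)).app (ModuleCat.of A' N')⟩
  exact key (algebraMap A' A) i (Algebra.algebra_ext _ _ fun _ => rfl)

end Groth.Agent.TildePull72
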